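import Mathlib

/-! The graded ring `S♮ = ⊕ S_{≥ n}`. -/

set_option autoImplicit false

noncomputable section

universe u

open DirectSum Polynomial

namespace Groth.Agent.NaturalLib

variable {R A B : Type u} [CommRing R] [CommRing A] [Algebra R A]

/-- `S_{≥ n}`. -/
def F (𝒜 : ℕ → Submodule R A) (n : ℕ) : Submodule R A := ⨆ (m : ℕ) (_ : n ≤ m), 𝒜 m

variable (𝒜 : ℕ → Submodule R A) [GradedAlgebra 𝒜]

omit [GradedAlgebra 𝒜] in
lemma deg_le_F {n m : ℕ} (h : n ≤ m) : 𝒜 m ≤ F 𝒜 n := le_iSup₂_of_le m h le_rfl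

lemma mem_F_iff {n : ℕ} {a : A} : a ∈ F 𝒜 n ↔ ∀ m < n, (decompose 𝒜 a m : A) = 0 := by
  classical
  constructor
  · intro ha m hm
    refine (Submodule.mem_bot R).1 ((show F 𝒜 n ≤ Submodule.comap
      ((𝒜 m).subtype ∘ₗ (DirectSum.component R ℕ (fun i => 𝒜 i) m) ∘ₗ
        (decomposeLinearEquiv 𝒜).toLinearMap) ⊥ from iSup₂_le fun i hi x hx => ?_) ha)
    show (decompose 𝒜 x m : A) ∈ (⊥ : Submodule R A)
    rw [Submodule.mem_bot, decompose_of_mem_ne 𝒜 hx (hm.trans_le hi).ne']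
  · intro h
    rw [← sum_support_decompose 𝒜 a]
    refine sum_mem fun m _ => ?_
    by_cases hm : m < n
    · rw [h m hm]
      exact zero_mem _
    · exact deg_le_F 𝒜 (not_lt.1 hm) (SetLike.coe_mem _)

lemma decompose_mem_F {n : ℕ} {a : A} (ha : a ∈ F 𝒜 n) (m : ℕ) : (decompose 𝒜 a m : A) ∈ F 𝒜 n := by
  by_cases hm : m < n
  · rw [(mem_F_iff 𝒜).1 ha m hm]
    exact zero_mem _
  · exact deg_le_F 𝒜 (not_lt.1 hm) (SetLike.coe_mem _)

lemma mem_F_zero (a : A) : a ∈ F 𝒜 0 := (mem_F_iff 𝒜).2 fun m hm => absurd hm (Nat.not_lt_zero m)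

lemma proj_mul {i j : ℕ} {a b : A} (ha : a ∈ F 𝒜 i) (hb : b ∈ F 𝒜 j) :
    (decompose 𝒜 (a * b) (i + j) : A) = (decompose 𝒜 a i : A) * (decompose 𝒜 b j : A) := by
  classical
  rw [decompose_mul, coe_mul_apply_eq_sum_antidiagonal, Finset.sum_eq_single_of_mem (i, j) (by simp)]
  rintro ⟨p, q⟩ hpq hne
  rw [Finset.HasAntidiagonal.mem_antidiagonal] at hpq
  by_cases hp : p < i
  · rw [(mem_F_iff 𝒜).1 ha p hp, zero_mul]
  · by_cases hq : q < j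
    · rw [(mem_F_iff 𝒜).1 hb q hq, mul_zero]
    · exact absurd (Prod.ext (by simp at hpq; omega) (by simp at hpq; omega)) hne

variable [CommRing B] [Algebra R B] (ℬ : ℕ → Submodule R B) (φ : B →ₐ[R] A[X])
  (hdeg : ∀ n : ℕ, Submodule.map φ.toLinearMap (ℬ n) =
    Submodule.map ((Polynomial.monomial n : A →ₗ[A] A[X]).restrictScalars R) (F 𝒜 n))

variable {ℬ φ}

include hdeg in
omit [GradedAlgebra 𝒜] in
lemma exists_deg {n : ℕ} {a : A} (ha : a ∈ F 𝒜 n) : ∃ b ∈ ℬ n, φ b = monomial n a := by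
  have h : monomial n a ∈ Submodule.map φ.toLinearMap (ℬ n) := by
    rw [hdeg n]; exact ⟨a, ha, rfl⟩
  exact h

include hdeg in
omit [GradedAlgebra 𝒜] in
lemma map_deg {n : ℕ} {b : B} (hb : b ∈ ℬ n) : (φ b).coeff n ∈ F 𝒜 n ∧ φ b = monomial n ((φ b).coeff n) := by
  have h : φ b ∈ Submodule.map φ.toLinearMap (ℬ n) := ⟨b, hb, rfl⟩
  rw [hdeg n] at h
  obtain ⟨a, ha, he⟩ := h
  change monomial n a = φ b at he
  rw [← he, coeff_monomial, if_pos rfl]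
  exact ⟨ha, rfl⟩

variable [GradedAlgebra ℬ]

/-- `S♮_n → S_n`. -/
def projHom (n : ℕ) : ℬ n →ₗ[R] A :=
  (𝒜 n).subtype ∘ₗ (DirectSum.component R ℕ (fun i => 𝒜 i) n) ∘ₗ (decomposeLinearEquiv 𝒜).toLinearMap ∘ₗ
    ((lcoeff A n).restrictScalars R) ∘ₗ φ.toLinearMap ∘ₗ (ℬ n).subtype

omit [GradedAlgebra ℬ] in
lemma projHom_apply (n : ℕ) (b : ℬ n) : projHom 𝒜 (φ := φ) n b = (decompose 𝒜 ((φ (b : B)).coeff n) n : A) := rfl

include hdeg in
lemma projHom_mul {i j : ℕ} (ai : ℬ i) (aj : ℬ j) :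
    projHom 𝒜 (φ := φ) (i + j) (GradedMonoid.GMul.mul (A := fun i => ℬ i) ai aj) =
      projHom 𝒜 (φ := φ) i ai * projHom 𝒜 (φ := φ) j aj := by
  obtain ⟨hi, hi'⟩ := map_deg 𝒜 hdeg ai.2
  obtain ⟨hj, hj'⟩ := map_deg 𝒜 hdeg aj.2
  rw [projHom_apply, projHom_apply, projHom_apply, SetLike.coe_gMul, map_mul, hi', hj', monomial_mul_monomial]
  simp only [coeff_monomial, if_true]
  exact proj_mul 𝒜 hi hj

/-- The homomorphism `S♮ → S`. -/
def natProj : B →ₐ[R] A :=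
  (DirectSum.toAlgebra R (fun i => ℬ i) (projHom 𝒜 (φ := φ))
    (by
      rw [projHom_apply]
      show (decompose 𝒜 ((φ (1 : B)).coeff 0) 0 : A) = 1
      rw [map_one, coeff_one_zero, decompose_of_mem_same 𝒜 SetLike.GradedOne.one_mem])
    (fun ai aj => projHom_mul 𝒜 hdeg ai aj)).comp (decomposeAlgEquiv ℬ).toAlgHom

lemma natProj_apply {n : ℕ} {b : B} (hb : b ∈ ℬ n) :
    natProj 𝒜 hdeg b = (decompose 𝒜 ((φ b).coeff n) n : A) := by
  classical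
  rw [natProj, AlgHom.comp_apply]
  show DFunLike.coe _ (decomposeAlgEquiv ℬ b) = _
  rw [decomposeAlgEquiv_apply, decompose_of_mem ℬ hb]
  refine Eq.trans ?_ (projHom_apply 𝒜 n (⟨b, hb⟩ : ℬ n))
  change DirectSum.toModule R ℕ A (projHom 𝒜 (φ := φ)) (DirectSum.lof R ℕ (fun i => ℬ i) n ⟨b, hb⟩) = _
  exact DirectSum.toModule_lof R (M := fun i => ℬ i) (φ := projHom 𝒜 (φ := φ)) n ⟨b, hb⟩

lemma natProj_mem {n : ℕ} {b : B} (hb : b ∈ ℬ n) : natProj 𝒜 hdeg b ∈ 𝒜 n := by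
  rw [natProj_apply 𝒜 hdeg hb]
  exact SetLike.coe_mem _

lemma exists_natProj_eq {n : ℕ} {a : A} (ha : a ∈ 𝒜 n) : ∃ b ∈ ℬ n, natProj 𝒜 hdeg b = a := by
  obtain ⟨b, hb, hba⟩ := exists_deg 𝒜 hdeg (deg_le_F 𝒜 le_rfl ha)
  refine ⟨b, hb, ?_⟩
  rw [natProj_apply 𝒜 hdeg hb, hba, coeff_monomial, if_pos rfl, decompose_of_mem_same 𝒜 ha]

lemma map_natProj (n : ℕ) : Submodule.map (natProj 𝒜 hdeg).toLinearMap (ℬ n) = 𝒜 n := by
  refine le_antisymm (Submodule.map_le_iff_le_comap.2 fun b hb => natProj_mem 𝒜 hdeg hb) fun a ha => ?_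
  exact exists_natProj_eq 𝒜 hdeg ha

lemma natProj_surjective : Function.Surjective (natProj 𝒜 hdeg) := by
  classical
  intro a
  refine (AlgHom.mem_range _).1 ?_
  rw [← sum_support_decompose 𝒜 a]
  exact sum_mem fun m _ => by
    obtain ⟨b, -, hb⟩ := exists_natProj_eq 𝒜 hdeg (SetLike.coe_mem (decompose 𝒜 a m))
    exact ⟨b, hb⟩

include hdeg in
omit [GradedAlgebra ℬ] in
/-- An element of `S♮_n` is the sum of its bihomogeneous parts. -/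
lemma induction_on_deg (hφ : Function.Injective φ) {P : AddSubmonoid B} {n : ℕ} {b : B} (hb : b ∈ ℬ n)
    (h : ∀ b' ∈ ℬ n, ∀ m, n ≤ m → ∀ a ∈ 𝒜 m, a = (decompose 𝒜 ((φ b).coeff n) m : A) →
      φ b' = monomial n a → b' ∈ P) : b ∈ P := by
  classical
  obtain ⟨hF, hb'⟩ := map_deg 𝒜 hdeg hb
  choose β hβ hβ' using fun m : ℕ => exists_deg 𝒜 hdeg (decompose_mem_F 𝒜 hF m)
  have : b = ∑ m ∈ (decompose 𝒜 ((φ b).coeff n)).support, β m := hφ (by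
    rw [map_sum, hb']
    conv_lhs => rw [← sum_support_decompose 𝒜 ((φ b).coeff n), map_sum]
    refine Finset.sum_congr (by rw [← hb']) fun m _ => ?_
    exact (hβ' m).symm)
  rw [this]
  refine sum_mem fun m hm => h _ (hβ m) m ?_ _ (SetLike.coe_mem _) rfl (hβ' m)
  by_contra hlt
  exact DFinsupp.mem_support_iff.1 hm (Subtype.ext ((mem_F_iff 𝒜).1 hF m (not_le.1 hlt)))

/-- `S♮_0 = S`. -/
def zeroHom : ℬ 0 →+* A := (Polynomial.constantCoeff.comp φ.toRingHom).comp (algebraMap (ℬ 0) B)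

include hdeg in
lemma zeroHom_bijective (hφ : Function.Injective φ) : Function.Bijective (zeroHom (ℬ := ℬ) (φ := φ)) := by
  refine ⟨fun x y h => Subtype.ext (hφ ?_), fun a => ?_⟩
  · rw [(map_deg 𝒜 hdeg x.2).2, (map_deg 𝒜 hdeg y.2).2]
    exact congrArg (monomial 0) h
  · obtain ⟨b, hb, he⟩ := exists_deg 𝒜 hdeg (mem_F_zero 𝒜 a)
    exact ⟨⟨b, hb⟩, show (φ b).coeff 0 = a by rw [he, coeff_monomial, if_pos rfl]⟩

end Groth.Agent.NaturalLib
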