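import Groth.Agent.NaturalLib.Basic

/-! Finiteness and powers for `S♮`. -/

set_option autoImplicit false

noncomputable section

universe u

open DirectSum Polynomial

namespace Groth.Agent.NaturalLib

variable {R A B : Type u} [CommRing R] [CommRing A] [Algebra R A] (𝒜 : ℕ → Submodule R A) [GradedAlgebra 𝒜]
  [CommRing B] [Algebra R B] {ℬ : ℕ → Submodule R B} [GradedAlgebra ℬ] {φ : B →ₐ[R] A[X]}
  (hdeg : ∀ n : ℕ, Submodule.map φ.toLinearMap (ℬ n) =
    Submodule.map ((Polynomial.monomial n : A →ₗ[A] A[X]).restrictScalars R) (F 𝒜 n))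

/-- `ℬ 0 → 𝒜 0` induced by `natProj`. -/
def zeroProj : ℬ 0 →+* 𝒜 0 where
  toFun x := ⟨natProj 𝒜 hdeg x.1, natProj_mem 𝒜 hdeg x.2⟩
  map_one' := Subtype.ext (map_one (natProj 𝒜 hdeg))
  map_mul' x y := Subtype.ext (map_mul (natProj 𝒜 hdeg) x.1 y.1)
  map_zero' := Subtype.ext (map_zero (natProj 𝒜 hdeg))
  map_add' x y := Subtype.ext (map_add (natProj 𝒜 hdeg) x.1 y.1)

include hdeg in
lemma finiteType_of_natural (h : Algebra.FiniteType (ℬ 0) B) : Algebra.FiniteType (𝒜 0) A := by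
  have e : (algebraMap (𝒜 0) A).comp (zeroProj 𝒜 hdeg) =
      (natProj 𝒜 hdeg).toRingHom.comp (algebraMap (ℬ 0) B) := RingHom.ext fun _ => rfl
  have h1 : ((algebraMap (𝒜 0) A).comp (zeroProj 𝒜 hdeg)).FiniteType := e ▸
    (RingHom.FiniteType.of_surjective _ (natProj_surjective 𝒜 hdeg)).comp (RingHom.finiteType_algebraMap.2 h)
  exact RingHom.finiteType_algebraMap.1 (RingHom.FiniteType.of_comp_finiteType h1)

include hdeg in
lemma finiteType_natural (hφ : Function.Injective φ) (h : Algebra.FiniteType (𝒜 0) A) :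
    Algebra.FiniteType (ℬ 0) B := by
  classical
  obtain ⟨s, hs, hdeg'⟩ := GradedAlgebra.exists_finset_adjoin_eq_top_and_homogeneous_ne_zero 𝒜
  choose e he0 he using hdeg'
  choose β hβ hβ' using fun (x : s) (k : Fin (e x.1 x.2 + 1)) => exists_deg 𝒜 hdeg
    (deg_le_F 𝒜 (Nat.lt_succ_iff.1 k.2) (he x.1 x.2))
  let T : Finset B := Finset.univ.image fun p : Σ x : s, Fin (e x.1 x.2 + 1) => β p.1 p.2
  let S₀ : Subalgebra (ℬ 0) B := Algebra.adjoin (ℬ 0) (T : Set B)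
  let Good : ℕ → A → Prop := fun m a => ∀ n ≤ m, ∃ b ∈ S₀, φ b = monomial n a
  have good_zero : ∀ m, Good m 0 := fun m n _ => ⟨0, zero_mem _, by rw [map_zero, map_zero]⟩
  have good_add : ∀ m a a', Good m a → Good m a' → Good m (a + a') := fun m a a' h h' n hn => by
    obtain ⟨b, hb, e⟩ := h n hn
    obtain ⟨b', hb', e'⟩ := h' n hn
    exact ⟨b + b', add_mem hb hb', by rw [map_add, map_add, e, e']⟩
  have good_mul : ∀ m m' a a', Good m a → Good m' a' → Good (m + m') (a * a') := fun m m' a a' h h' n hn => by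
    obtain ⟨b, hb, e⟩ := h (min n m) (min_le_right _ _)
    obtain ⟨b', hb', e'⟩ := h' (n - min n m) (by omega)
    refine ⟨b * b', mul_mem hb hb', ?_⟩
    rw [map_mul, e, e', monomial_mul_monomial, Nat.add_sub_cancel' (min_le_left _ _)]
  have good_const : ∀ a : A, Good 0 a := fun a n hn => by
    obtain rfl := Nat.le_zero.1 hn
    obtain ⟨b, hb, hb'⟩ := exists_deg 𝒜 hdeg (mem_F_zero 𝒜 a)
    exact ⟨b, S₀.algebraMap_mem ⟨b, hb⟩, hb'⟩
  let Q : AddSubmonoid A :=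
    { carrier := {a | ∀ m, Good m (decompose 𝒜 a m : A)}
      zero_mem' := fun m => by rw [decompose_zero]; exact good_zero m
      add_mem' := fun {a a'} h h' m => by
        rw [decompose_add]; exact good_add m _ _ (h m) (h' m) }
  have homog : ∀ m a, a ∈ 𝒜 m → Good m a → a ∈ Q := fun m a ha hg i => by
    by_cases hi : m = i
    · subst hi; rw [decompose_of_mem_same 𝒜 ha]; exact hg
    · rw [decompose_of_mem_ne 𝒜 ha hi]; exact good_zero i
  have hmul : ∀ a a', a ∈ Q → a' ∈ Q → a * a' ∈ Q := fun a a' h h' => by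
    rw [← sum_support_decompose 𝒜 a, ← sum_support_decompose 𝒜 a', Finset.sum_mul_sum]
    exact sum_mem fun i _ => sum_mem fun j _ => homog (i + j) _
      (SetLike.mul_mem_graded (SetLike.coe_mem _) (SetLike.coe_mem _)) (good_mul i j _ _ (h i) (h' j))
  have hQ : ∀ a, a ∈ Q := fun a => by
    have ha : a ∈ Algebra.adjoin (𝒜 0) (s : Set A) := hs ▸ Algebra.mem_top
    induction ha using Algebra.adjoin_induction with
    | mem x hx =>
      refine homog (e x hx) x (he x hx) fun n hn => ?_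
      exact ⟨β ⟨x, hx⟩ ⟨n, Nat.lt_succ_iff.2 hn⟩, Algebra.subset_adjoin
        (Finset.mem_image.2 ⟨⟨⟨x, hx⟩, ⟨n, Nat.lt_succ_iff.2 hn⟩⟩, Finset.mem_univ _, rfl⟩), hβ' _ _⟩
    | algebraMap r => exact homog 0 (r : A) r.2 (good_const _)
    | add x y _ _ hx hy => exact add_mem hx hy
    | mul x y _ _ hx hy => exact hmul x y hx hy
  refine ⟨T, eq_top_iff.2 fun b _ => ?_⟩
  rw [← sum_support_decompose ℬ b]
  refine sum_mem fun n _ => ?_
  refine induction_on_deg 𝒜 hdeg hφ (P := S₀.toSubsemiring.toAddSubmonoid) (SetLike.coe_mem _)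
    fun b' _ m hm a ha _ hb' => ?_
  obtain ⟨b'', hb'', he''⟩ := hQ a m n hm
  rw [decompose_of_mem_same 𝒜 ha, ← hb'] at he''
  exact hφ he'' ▸ hb''

include hdeg in
lemma isNoetherianRing_iff (hφ : Function.Injective φ)
    (hft : IsNoetherianRing A → Algebra.FiniteType (𝒜 0) A) : IsNoetherianRing B ↔ IsNoetherianRing A := by
  refine ⟨fun h => isNoetherianRing_of_surjective B A (natProj 𝒜 hdeg).toRingHom (natProj_surjective 𝒜 hdeg),
    fun h => ?_⟩
  have := finiteType_natural 𝒜 hdeg hφ (hft h)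
  have : IsNoetherianRing (ℬ 0) :=
    isNoetherianRing_of_ringEquiv A (RingEquiv.ofBijective _ (zeroHom_bijective 𝒜 hdeg hφ)).symm
  exact Algebra.FiniteType.isNoetherianRing (ℬ 0) B

omit [GradedAlgebra 𝒜] [GradedAlgebra ℬ] in
include hdeg in
lemma monomial_mem {n : ℕ} {x : A} (hx : x ∈ F 𝒜 n) : monomial n x ∈ Submodule.map φ.toLinearMap (ℬ n) := by
  rw [hdeg n]; exact ⟨x, hx, rfl⟩

omit [GradedAlgebra 𝒜] [GradedAlgebra ℬ] in
lemma monomial_mul_mem {m n : ℕ} {x y : A} {P Q : Submodule R B}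
    (hx : monomial m x ∈ Submodule.map φ.toLinearMap P) (hy : monomial n y ∈ Submodule.map φ.toLinearMap Q) :
    monomial (m + n) (x * y) ∈ Submodule.map φ.toLinearMap (P * Q) := by
  rw [Submodule.map_mul, ← monomial_mul_monomial]
  exact Submodule.mul_mem_mul hx hy

omit [GradedAlgebra ℬ] in
include hdeg in
lemma eq_of_monomial_mem (hφ : Function.Injective φ) {n : ℕ} {P : Submodule R B}
    (h : ∀ m, n ≤ m → ∀ a ∈ 𝒜 m, monomial n a ∈ Submodule.map φ.toLinearMap P) : ℬ n ≤ P := by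
  intro b hb
  refine induction_on_deg 𝒜 hdeg hφ (P := P.toAddSubmonoid) hb fun b' _ m hm a ha _ hb' => ?_
  obtain ⟨c, hc, hc'⟩ := h m hm a ha
  exact hφ (hc'.trans hb'.symm) ▸ hc

omit [GradedAlgebra 𝒜] in
lemma mul_le_succ (n : ℕ) : ℬ 1 * ℬ n ≤ ℬ (n + 1) :=
  Submodule.mul_le.2 fun b hb c hc => by
    have := SetLike.mul_mem_graded (A := ℬ) hb hc
    rwa [Nat.add_comm] at this

lemma pow_le_deg (n : ℕ) : ℬ 1 ^ (n + 1) ≤ ℬ (n + 1) := by
  induction n with
  | zero => rw [pow_one]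
  | succ n ih => rw [pow_succ']; exact (mul_le_mul' le_rfl ih).trans (mul_le_succ (n + 1))

/-- `ℬ` is arbitrary in `pow_le_deg`, so it applies to `𝒜`. -/
lemma pow_le_deg' (r : ℕ) : 𝒜 1 ^ (1 + r) ≤ 𝒜 (r + 1) := by
  rw [Nat.add_comm 1 r]
  exact pow_le_deg (ℬ := 𝒜) r

include hdeg in
lemma succ_iff (hφ : Function.Injective φ) (n₀ : ℕ) :
    (∀ n : ℕ, n₀ ≤ n → ℬ (n + 1) = ℬ 1 * ℬ n) ↔ (∀ n : ℕ, n₀ ≤ n → 𝒜 (n + 1) = 𝒜 1 * 𝒜 n) := by
  constructor
  · intro h n hn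
    rw [← map_natProj 𝒜 hdeg (n + 1), h n hn, Submodule.map_mul, map_natProj, map_natProj]
  · intro h n hn
    refine le_antisymm (eq_of_monomial_mem 𝒜 hdeg hφ fun m hm a ha => ?_) (mul_le_succ n)
    obtain ⟨m, rfl⟩ := Nat.exists_eq_add_of_le' (Nat.le_trans (Nat.le_add_left 1 n) hm)
    rw [h m (by omega)] at ha
    induction ha using Submodule.mul_induction_on' with
    | mem_mul_mem x hx y hy =>
      have := monomial_mul_mem (monomial_mem 𝒜 hdeg (deg_le_F 𝒜 le_rfl hx))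
        (monomial_mem 𝒜 hdeg (deg_le_F 𝒜 (Nat.succ_le_succ_iff.1 hm) hy))
      rwa [Nat.add_comm 1 n] at this
    | add x _ y _ hx hy =>
      rw [map_add]
      exact add_mem hx hy

omit [GradedAlgebra 𝒜] [GradedAlgebra ℬ] in
include hdeg in
lemma monomial_pow_mem (k : ℕ) : ∀ x ∈ F 𝒜 1 ^ (k + 1),
    monomial (k + 1) x ∈ Submodule.map φ.toLinearMap (ℬ 1 ^ (k + 1)) := by
  induction k with
  | zero => intro x hx; rw [pow_one] at hx ⊢; exact monomial_mem 𝒜 hdeg hx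
  | succ k ih =>
    intro x hx
    rw [pow_succ] at hx ⊢
    induction hx using Submodule.mul_induction_on' with
    | mem_mul_mem x hx y hy => exact monomial_mul_mem (ih x hx) (monomial_mem 𝒜 hdeg hy)
    | add x _ y _ hx hy =>
      rw [map_add]
      exact add_mem hx hy

include hdeg in
lemma pow_iff (hφ : Function.Injective φ) (n₀ : ℕ) (hn₀ : 1 ≤ n₀) :
    (∀ n : ℕ, n₀ ≤ n → ℬ n = ℬ 1 ^ n) ↔ (∀ n : ℕ, n₀ ≤ n → 𝒜 n = 𝒜 1 ^ n) := by
  constructor
  · intro h n hn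
    rw [← map_natProj 𝒜 hdeg n, h n hn, Submodule.map_pow, map_natProj]
  · intro h n hn
    obtain ⟨k, rfl⟩ := Nat.exists_eq_add_of_le' (hn₀.trans hn)
    refine le_antisymm (eq_of_monomial_mem 𝒜 hdeg hφ fun m hm a ha => ?_) (pow_le_deg k)
    refine monomial_pow_mem 𝒜 hdeg k a ?_
    obtain ⟨r, rfl⟩ := Nat.exists_eq_add_of_le hm
    rw [h _ (hn.trans hm), Nat.add_assoc, pow_add] at ha
    have h1 : 𝒜 1 ≤ F 𝒜 1 := deg_le_F 𝒜 le_rfl
    have h2 : 𝒜 1 ^ (1 + r) ≤ F 𝒜 1 := (pow_le_deg' 𝒜 r).trans (deg_le_F 𝒜 (Nat.le_add_left 1 r))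
    rw [pow_succ (F 𝒜 1) k]
    exact mul_le_mul' (pow_le_pow_left' h1 k) h2 ha

end Groth.Agent.NaturalLib
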