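import Groth.Agent.NaturalLib.Basic
import Mathlib.RingTheory.GradedAlgebra.Homogeneous.Ideal

/-! `T = S♮ ⊗_S S₀` and its map to `S`. -/

set_option autoImplicit false

noncomputable section

universe u

open DirectSum Polynomial

namespace Groth.Agent.NaturalLib

variable {R A B C : Type u} [CommRing R] [CommRing A] [Algebra R A] (𝒜 : ℕ → Submodule R A) [GradedAlgebra 𝒜]
  [CommRing B] [Algebra R B] {ℬ : ℕ → Submodule R B} [GradedAlgebra ℬ] {φ : B →ₐ[R] A[X]}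
  (hdeg : ∀ n : ℕ, Submodule.map φ.toLinearMap (ℬ n) =
    Submodule.map ((Polynomial.monomial n : A →ₗ[A] A[X]).restrictScalars R) (F 𝒜 n))
  (hφ : Function.Injective φ)
  [CommRing C] [Algebra R C] {𝒞 : ℕ → Submodule R C} [GradedAlgebra 𝒞]
  {π : ℬ →+*ᵍ 𝒞} (hπ : Function.Surjective π)
  (hker : RingHom.ker π.toRingHom =
    Ideal.span (⇑φ ⁻¹' (⇑(Polynomial.C : A →+* A[X]) '' ((HomogeneousIdeal.irrelevant 𝒜).toIdeal : Set A))))
  {ρ : 𝒞 →+*ᵍ 𝒜} (hρ : ∀ (n : ℕ) (b : B), b ∈ ℬ n → ρ (π b) = GradedRing.proj 𝒜 n ((φ b).coeff n))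

include hdeg hker hφ in
lemma map_eq_zero_of_mul {c x : A} {j n : ℕ} (hj : 0 < j) (hc : c ∈ 𝒜 j) (hx : x ∈ F 𝒜 n) {b : B}
    (hb : φ b = monomial n (c * x)) : π b = 0 := by
  obtain ⟨b₀, -, h₀⟩ := exists_deg 𝒜 hdeg (mem_F_zero 𝒜 c)
  obtain ⟨b₁, -, h₁⟩ := exists_deg 𝒜 hdeg hx
  have : b = b₀ * b₁ := hφ (by rw [map_mul, h₀, h₁, monomial_mul_monomial, Nat.zero_add, hb])
  have h : b₀ ∈ RingHom.ker π.toRingHom := by
    rw [hker]
    refine Ideal.subset_span ⟨c, HomogeneousIdeal.mem_irrelevant_of_mem _ hj hc, ?_⟩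
    rw [h₀, ← monomial_zero_left]
  rw [this, map_mul]
  exact mul_eq_zero_of_left h _

include hdeg hρ in
lemma rho_surjective : Function.Surjective ρ := by
  classical
  intro a
  rw [← sum_support_decompose 𝒜 a]
  refine (RingHom.mem_range (f := ρ.toRingHom)).1 (sum_mem fun m _ => ?_)
  obtain ⟨b, hb, hb'⟩ := exists_deg 𝒜 hdeg (deg_le_F 𝒜 le_rfl (SetLike.coe_mem (decompose 𝒜 a m)))
  refine ⟨π b, (hρ m b hb).trans ?_⟩
  rw [hb', coeff_monomial, if_pos rfl, GradedRing.proj_apply, decompose_of_mem_same 𝒜 (SetLike.coe_mem _)]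

include hπ in
omit [GradedAlgebra 𝒜] in
lemma exists_deg_preimage {n : ℕ} {c : C} (hc : c ∈ 𝒞 n) : ∃ b ∈ ℬ n, π b = c := by
  classical
  obtain ⟨b, rfl⟩ := hπ c
  refine ⟨decompose ℬ b n, SetLike.coe_mem _, ?_⟩
  rw [GradedRingHom.map_directSumDecompose, decompose_of_mem_same _ hc]

include hdeg hφ hπ hker hρ in
lemma ker_rho_le_nilradical {c : C} (hc : ρ c = 0) : IsNilpotent c := by
  classical
  rw [← sum_support_decompose 𝒞 c]
  refine isNilpotent_sum fun n _ => ?_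
  obtain ⟨b, hb, hbc⟩ := exists_deg_preimage hπ (SetLike.coe_mem (decompose 𝒞 c n))
  rw [← hbc]
  have h0 : (decompose 𝒜 ((φ b).coeff n) n : A) = 0 := by
    have e := hρ n b hb
    rw [hbc, GradedRing.proj_apply, GradedRingHom.map_directSumDecompose, hc, decompose_zero] at e
    exact e.symm
  show π b ∈ nilradical C
  refine induction_on_deg 𝒜 hdeg hφ (P := ((nilradical C).comap π.toRingHom).toAddSubmonoid) hb
    fun b' hb'' m hm a ha hae hb' => ?_
  rcases hm.eq_or_lt with rfl | hlt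
  · have : b' = 0 := hφ (by rw [hb', hae, h0, map_zero, map_zero])
    exact this ▸ zero_mem _
  refine (⟨n + 1, ?_⟩ : IsNilpotent (π b'))
  rw [← map_pow]
  refine map_eq_zero_of_mul 𝒜 hdeg hφ hker (c := a) (x := a ^ n) (j := m) (n := n * (n + 1))
    (Nat.lt_of_le_of_lt (Nat.zero_le n) hlt) ha ?_ ?_
  · refine deg_le_F 𝒜 ?_ (SetLike.pow_mem_graded n ha)
    rw [smul_eq_mul]
    exact Nat.mul_le_mul_left n hlt
  · rw [map_pow, hb', monomial_pow, ← pow_succ']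

include hdeg hφ hπ hker hρ in
lemma rho_injective_of_deg {n : ℕ} (hgen : ∀ m, n ≤ m → 𝒜 (m + 1) = 𝒜 1 * 𝒜 m) {c : C} (hc : c ∈ 𝒞 n)
    (h : ρ c = 0) : c = 0 := by
  obtain ⟨b, hb, rfl⟩ := exists_deg_preimage hπ hc
  rw [hρ n b hb, GradedRing.proj_apply] at h
  show b ∈ RingHom.ker π.toRingHom
  refine induction_on_deg 𝒜 hdeg hφ (P := (RingHom.ker π.toRingHom).toAddSubmonoid) hb
    fun b' hb'' m hm a ha hae hb' => ?_
  rcases hm.eq_or_lt with rfl | hlt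
  · have : b' = 0 := hφ (by rw [hb', hae, h, map_zero, map_zero])
    exact this ▸ zero_mem _
  obtain ⟨m, rfl⟩ := Nat.exists_eq_add_of_le' (Nat.lt_of_le_of_lt (Nat.zero_le n) hlt)
  rw [Nat.add_comm] at hlt
  rw [hgen m (by omega)] at ha
  clear hae hb''
  revert b'
  induction ha using Submodule.mul_induction_on' with
  | mem_mul_mem x hx y hy =>
    intro b' hb'
    exact map_eq_zero_of_mul 𝒜 hdeg hφ hker one_pos hx (deg_le_F 𝒜 (by omega) hy) hb'
  | add x hx y hy ihx ihy =>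
    intro b' hb'
    have hF : ∀ z ∈ 𝒜 1 * 𝒜 m, z ∈ F 𝒜 n := fun z hz => by
      rw [← hgen m (by omega)] at hz
      exact deg_le_F 𝒜 (by omega) hz
    obtain ⟨bx, -, ex⟩ := exists_deg 𝒜 hdeg (hF x hx)
    obtain ⟨by', -, ey⟩ := exists_deg 𝒜 hdeg (hF y hy)
    have : b' = bx + by' := hφ (by rw [hb', map_add, map_add, ex, ey])
    exact this ▸ add_mem (ihx bx ex) (ihy by' ey)

end Groth.Agent.NaturalLib
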